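set_option autoImplicit false
namespace Cfsg.Agent.Lib.Helper6.TCD.Fi23U5
noncomputable def NC (i : Nat) : Nat := Nat.land (Nat.shiftRight 0xc000200000000000000002000070000000000000000400018000000000000000400004000000000000000100000c00000000000000000000300000000000000004000080000000000000002000010000000000000000c00000000000000000000000000 (Nat.mul 86 (Nat.land i 511))) 77371252455336267181195263
end Cfsg.Agent.Lib.Helper6.TCD.Fi23U5
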