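set_option autoImplicit false
namespace Cfsg.Agent.Lib.Helper6.TCD.Fi23U5
noncomputable def SC (i : Nat) : Nat := Nat.land (Nat.shiftRight 0x180080000001000130080003c020000900800058020000000000000010000d0080001c02000120080004002000000000000001000050080000001000170080005402000000000002c02000000040005c020001500800044020000001000000000000a00800020020000600800000010000000000040020000e0080000001000000000005802000140080000001000000000001c02000180080000001000000000003c02000090080007002000000000006c020001a0080006402 (Nat.mul 30 (Nat.land i 1023))) 1073741823
end Cfsg.Agent.Lib.Helper6.TCD.Fi23U5
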