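set_option autoImplicit false
namespace Cfsg.Agent.Lib.Helper6.TCD.Fi23U5
noncomputable def WDL0 (i : Nat) : Nat := Nat.land (Nat.shiftRight 0x313104121212062121210600040404004040040003030400303004000202040020200401010106101010060000440200003302000022020000110200000002 (Nat.mul 32 (Nat.land i 15))) 4294967295
noncomputable def WDL1 (i : Nat) : Nat := Nat.land (Nat.shiftRight 0x401000002010000010100000001003434040043430400242404004242042323230632323206141414064141410600131304 (Nat.mul 32 (Nat.land i 15))) 4294967295
noncomputable def WD (i : Nat) : Nat := Bool.rec (WDL0 i) (WDL1 i) (Nat.ble 16 i)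
end Cfsg.Agent.Lib.Helper6.TCD.Fi23U5
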